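import Cfsg.Agent.H122.S5.Sub
import Cfsg.Agent.H441.GS.Chain
import Cfsg.Agent.KFacts.RgdChevCoord
import Cfsg.Agent.H406.GS.SLThree

/-!
# START in `SL₃(q)`, `q = 2, 3` (S4327, `E₆`, `E₇`, `E₈`), helper406

* `reach_of_hom`, `reach_back` : abstract;
* `start_small` : four conjugates reach two adjacent simple `A₁`s.
-/

set_option autoImplicit false
set_option linter.unusedSectionVars false

namespace Cfsg.Agent.H406.GS

open CoxeterSystem Subgroup Matrix Cfsg.Lie
open Cfsg.Agent.ChevalleyStructure Cfsg.Agent.ChevalleyStructure.Elts Cfsg.Agent.ChevalleyStructure.NPerm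
  Cfsg.Agent.ChevalleyStructure.CoxeterGeom Cfsg.Agent.ChevalleyStructure.CoxeterGeomTypes
open Cfsg.Agent.Tits.Roots Cfsg.Agent.Tits.Core Cfsg.Agent.Nodes.Reps Cfsg.Agent.Nodes.BNOf
  Cfsg.Agent.Nodes.OppDec Cfsg.Agent.Nodes.RGDChev Cfsg.Agent.Nodes.Comb
open Cfsg.Agent.KFacts.RgdChevCoord Cfsg.Agent.H122.S5
open Cfsg.Agent.H915.Gs (Reach Reach₁)

section

variable {Γ S : Type*} [Group Γ] [Group S] {a : MulAut Γ}

theorem reach_of_hom (π : S →* Γ) {u : Γ} {w v : S} (hw : π w = u * (a u)⁻¹)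
    (hv : closure {w, v * w * v⁻¹} = ⊤) : Reach a 4 π.range := by
  have h1 := (Reach₁.comm a (fun _ : Fin 1 => u)).reach
  have h3 := Cfsg.Agent.H441.GS.reach_sup h1 (h1.conj (π v))
  refine h3.sub ?_
  rw [MonoidHom.range_eq_map, ← hv, MonoidHom.map_closure, closure_le]
  have h4 : π w ∈ closure (Set.range fun _ : Fin 1 => u * (a u)⁻¹) := subset_closure ⟨0, hw.symm⟩
  rintro _ ⟨x, hx, rfl⟩
  rcases hx with rfl | hx
  · exact mem_sup_left h4
  · rw [Set.mem_singleton_iff] at hx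
    rw [hx]
    refine mem_sup_right ⟨π w, h4, ?_⟩
    rw [map_mul, map_mul, map_inv]
    rfl

theorem reach_back {n : Γ} {k : ℕ} {J : Subgroup Γ}
    (h : Reach (MulAut.conj n * a * (MulAut.conj n)⁻¹) k J) : Reach a k J := by
  have h1 := h.of_mul_conj
  have h2 : H915.Gs.im (MulAut.conj n)⁻¹ J = H915.Gs.cj n⁻¹ J := by rw [← map_inv]
  rw [h2] at h1
  exact h1.of_conj

end

section

variable {D : ChevalleyDatum} {l : ℕ} {M : CoxeterMatrix (Fin l)} (hp : IsType D l M) {K : Type*} [Field K]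
variable {W : Type*} [Group W] (cs : CoxeterSystem M W)

theorem xc_eq {r : ℕ} (hr : r < D.nroots) (t : K) : xc hp (vec D l r) t = xe hp.inList K r t :=
  Subtype.ext (coe_xc hp hr t)

theorem exists_word [Finite K] (p : ℕ) [Fact p.Prime] [CharP K p] (w : W) : ∃ n : ↥(D.group K),
    ∀ x, IsRoot cs hp.isCartan x → ∃ c : K, c ≠ 0 ∧
      ∀ t, n * xc hp x t * n⁻¹ = xc hp (rep cs hp.isCartan w x) (c * t) := by
  obtain ⟨ω, rfl⟩ := cs.wordProd_surjective w
  induction ω with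
  | nil =>
    refine ⟨1, fun x hx => ⟨1, one_ne_zero, fun t => ?_⟩⟩
    rw [wordProd_nil, map_one, Module.End.one_apply, one_mul, one_mul, inv_one, mul_one]
  | cons i ω ih =>
    obtain ⟨n, hn⟩ := ih
    refine ⟨nc hp K i * n, fun x hx => ?_⟩
    obtain ⟨c, hc, h1⟩ := hn x hx
    obtain ⟨c', hc', h2⟩ := (coords (K := K) hp cs p).nact i _ (hx.act (cs.wordProd ω))
    refine ⟨c' * c, mul_ne_zero hc' hc, fun t => ?_⟩
    have h3 : nc hp K i * n * xc hp x t * (nc hp K i * n)⁻¹ =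
        nc hp K i * (n * xc hp x t * n⁻¹) * (nc hp K i)⁻¹ := by group
    rw [h3, h1, h2, wordProd_cons, rep_mul_apply, mul_assoc]

/-- adjacent simple roots are conjugate -/
theorem act_of_adj {i j : Fin l} (hA : cartanOf D l i j = -1 ∧ cartanOf D l j i = -1) :
    ∃ w : W, rep cs hp.isCartan w (sr i) = sr j := by
  refine ⟨cs.simple i * cs.simple j, ?_⟩
  have e1 : rep cs hp.isCartan (cs.simple j) (sr i) = sr i + sr j := by
    rw [rep_simple_eq, sr, sr, pairing_single, hA.2]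
    simp only [mul_one, neg_smul, one_smul, sub_neg_eq_add]
  have e2 : rep cs hp.isCartan (cs.simple i) (sr j) = sr j + sr i := by
    rw [rep_simple_eq, sr, sr, pairing_single, hA.1]
    simp only [mul_one, neg_smul, one_smul, sub_neg_eq_add]
  rw [rep_mul_apply, e1, map_add, e2, rep_simple_sr]
  abel

/-- a tree leading to `i0` -/
def Tree (D : ChevalleyDatum) (l : ℕ) (i0 : Fin l) (par : Fin l → Fin l) (m : ℕ) : Prop :=
  (∀ j, j = i0 ∨ (cartanOf D l j (par j) = -1 ∧ cartanOf D l (par j) j = -1)) ∧ ∀ j, par^[m] j = i0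

theorem Tree.conj {i0 : Fin l} {par : Fin l → Fin l} {m : ℕ} (hT : Tree D l i0 par m) {x : Fin l → ℤ}
    (hx : IsRoot cs hp.isCartan x) : ∃ w : W, rep cs hp.isCartan w x = sr i0 := by
  have key : ∀ (m : ℕ) (j : Fin l), par^[m] j = i0 → ∃ w : W, rep cs hp.isCartan w (sr j) = sr i0 := by
    intro m
    induction m with
    | zero =>
      intro j hj
      have hj' : j = i0 := hj
      exact ⟨1, by rw [hj', map_one, Module.End.one_apply]⟩
    | succ m ih =>
      intro j hj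
      rw [Function.iterate_succ_apply] at hj
      obtain ⟨w, hw⟩ := ih _ hj
      rcases hT.1 j with h1 | h1
      · exact ⟨1, by rw [h1, map_one, Module.End.one_apply]⟩
      · obtain ⟨w', hw'⟩ := act_of_adj hp cs h1
        exact ⟨w * w', by rw [rep_mul_apply, hw', hw]⟩
  obtain ⟨w, j, rfl⟩ := hx
  obtain ⟨w', hw'⟩ := key m j (hT.2 j)
  exact ⟨w' * w⁻¹, by rw [rep_mul_apply, rep_inv_apply, hw']⟩

theorem XX_le {H : Subgroup ↥(D.group K)} {r : ℕ} (hr : r < D.nroots) (h : ∀ t, xe hp.inList K r t ∈ H) :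
    XX D l K (vec D l r) ≤ H := by
  intro y hy
  rw [Subgroup.mem_subgroupOf, XV_vec hp K hr, mem_rootSubgroup_iff hp.inList] at hy
  obtain ⟨t, ht⟩ := hy
  have h1 : y = xe hp.inList K r t := Subtype.ext ht
  rw [h1]
  exact h t

/-- START, general form -/
theorem start_of [Fintype K] (p : ℕ) [Fact p.Prime] [CharP K p]
    (hK : Fintype.card K = 2 ∨ Fintype.card K = 3) {i j : Fin l} (hij : i ≠ j) {R : List (List ℕ)}
    (hA : IsAn D 3 R []) (h01 : rt R 0 1 = D.simple i) (h12 : rt R 1 2 = D.simple j) {par : Fin l → Fin l} {m : ℕ}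
    (hT : Tree D l i par m) {a : MulAut ↥(D.group K)} {r : Fin l → ℤ} (hr : IsRoot cs hp.isCartan r) {c : K}
    (hc : c ≠ 0) (ha : ∀ t, a (xc hp (-r) t) = xc hp r (c * t)) :
    ∃ i j : Fin l, i ≠ j ∧ ∃ J, Reach a 4 J ∧ XX D l K (sr i) ≤ J ∧ XX D l K (-sr i) ≤ J ∧
      XX D l K (sr j) ≤ J ∧ XX D l K (-sr j) ≤ J := by
  obtain ⟨π, hπ, -, -⟩ := CTFrame.Hom.exists_hom (rx_stein hp.inList K hA) (rx_h hp.inList K hA)
    (by rw [Fintype.card_fin])
  have hπ' : ∀ (k k' : Fin 3) (h : k ≠ k') (t : K), π (SpecialLinearGroup.transvection h t) =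
      xe hp.inList K (rt R k k') t := by
    intro k k' h t
    have h1 : (sg [] (k : ℕ) (k' : ℕ)) = 1 := by
      unfold sg
      simp
    rw [hπ]
    unfold rx
    rw [h1, Int.cast_one, one_mul]
  have hi := simple_lt hp.inList (lt_rank hp i)
  have hj := simple_lt hp.inList (lt_rank hp j)
  have h10 : rt R 1 0 = D.neg (D.simple i) := by
    rw [← h01]
    exact (hA.neg 0 1 (by decide)).1.symm
  have h21 : rt R 2 1 = D.neg (D.simple j) := by
    rw [← h12]
    exact (hA.neg 1 2 (by decide)).1.symm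
  have hvi : vec D l (D.simple i) = sr i := vec_simple hp i
  have hvi' : vec D l (D.neg (D.simple i)) = -sr i := by rw [vec_neg hp hi, hvi]
  have hvj : vec D l (D.simple j) = sr j := vec_simple hp j
  have hvj' : vec D l (D.neg (D.simple j)) = -sr j := by rw [vec_neg hp hj, hvj]
  have hni := neg_lt hp.inList hi
  have hnj := neg_lt hp.inList hj
  -- conjugate `-r` to `sr i`
  obtain ⟨w, hw⟩ := hT.conj hp cs hr.neg
  obtain ⟨n, hn⟩ := exists_word hp cs (K := K) p w
  obtain ⟨c₁, hc₁, h1⟩ := hn _ hr.neg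
  obtain ⟨c₂, hc₂, h2⟩ := hn _ hr
  rw [hw] at h1
  have hw' : rep cs hp.isCartan w r = -sr i := by rw [← hw, map_neg, neg_neg]
  rw [hw'] at h2
  obtain ⟨b, hb⟩ : ∃ b, b = MulAut.conj n * a * (MulAut.conj n)⁻¹ := ⟨_, rfl⟩
  have hba : ∀ t, b (xc hp (sr i) t) = xc hp (-sr i) (c₂ * (c * (c₁⁻¹ * t))) := by
    intro t
    have h3 : n⁻¹ * xc hp (sr i) t * n = xc hp (-r) (c₁⁻¹ * t) := by
      have h4 := h1 (c₁⁻¹ * t)
      rw [← mul_assoc, mul_inv_cancel₀ hc₁, one_mul] at h4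
      rw [← h4]
      group
    rw [hb, MulAut.mul_apply, MulAut.mul_apply, ← map_inv, MulAut.conj_apply, MulAut.conj_apply, inv_inv, h3, ha, h2]
  obtain ⟨d, hd⟩ : ∃ d, d = -(c₂ * (c * (c₁⁻¹ * 1))) := ⟨_, rfl⟩
  have hd0 : d ≠ 0 := by
    rw [hd]
    exact neg_ne_zero.2 (mul_ne_zero hc₂ (mul_ne_zero hc (mul_ne_zero (inv_ne_zero hc₁) one_ne_zero)))
  obtain ⟨v, hv⟩ := sl3_small hK hd0
  have hπw : π (wc d) = xc hp (sr i) 1 * (b (xc hp (sr i) 1))⁻¹ := by
    rw [hba]
    unfold wc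
    rw [map_mul, hπ', hπ']
    have e1 : xe hp.inList K (rt R ((0 : Fin 3) : ℕ) ((1 : Fin 3) : ℕ)) (1 : K) = xc hp (sr i) 1 := by
      rw [← hvi, xc_eq hp hi]
      exact congrArg (fun s => xe hp.inList K s 1) h01
    have e2 : xe hp.inList K (rt R ((1 : Fin 3) : ℕ) ((0 : Fin 3) : ℕ)) d =
        (xc hp (-sr i) (c₂ * (c * (c₁⁻¹ * 1))))⁻¹ := by
      rw [← hvi', xc_eq hp hni, hd]
      have e3 : xe hp.inList K (rt R ((1 : Fin 3) : ℕ) ((0 : Fin 3) : ℕ)) (-(c₂ * (c * (c₁⁻¹ * 1)))) =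
        xe hp.inList K (D.neg (D.simple i)) (-(c₂ * (c * (c₁⁻¹ * 1)))) :=
        congrArg (fun s => xe hp.inList K s (-(c₂ * (c * (c₁⁻¹ * 1))))) h10
      rw [e3]
      refine eq_inv_of_mul_eq_one_left ?_
      rw [xe_add, neg_add_cancel]
      exact Subtype.ext (xG_zero hp.inList _)
    rw [e1, e2]
  have h5 := reach_back (hb ▸ reach_of_hom π hπw hv)
  refine ⟨i, j, hij, π.range, h5, ?_, ?_, ?_, ?_⟩
  · rw [← hvi]
    refine XX_le hp hi fun t => ⟨SpecialLinearGroup.transvection (show (0 : Fin 3) ≠ 1 by decide) t, ?_⟩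
    rw [hπ']
    exact congrArg (fun s => xe hp.inList K s t) h01
  · rw [← hvi']
    refine XX_le hp hni fun t => ⟨SpecialLinearGroup.transvection (show (1 : Fin 3) ≠ 0 by decide) t, ?_⟩
    rw [hπ']
    exact congrArg (fun s => xe hp.inList K s t) h10
  · rw [← hvj]
    refine XX_le hp hj fun t => ⟨SpecialLinearGroup.transvection (show (1 : Fin 3) ≠ 2 by decide) t, ?_⟩
    rw [hπ']
    exact congrArg (fun s => xe hp.inList K s t) h12
  · rw [← hvj']
    refine XX_le hp hnj fun t => ⟨SpecialLinearGroup.transvection (show (2 : Fin 3) ≠ 1 by decide) t, ?_⟩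
    rw [hπ']
    exact congrArg (fun s => xe hp.inList K s t) h21

/-! ### the three types -/

set_option maxRecDepth 100000 in
theorem isAn6 : IsAn chevE6 3 [[0, 39, 43], [32, 0, 42], [28, 29, 0]] [] :=
  { lt := by decide +kernel, neg := by decide +kernel, comm := by decide +kernel, br := by decide +kernel }

set_option maxRecDepth 100000 in
theorem isAn7 : IsAn chevE7 3 [[0, 69, 74], [56, 0, 73], [51, 52, 0]] [] :=
  { lt := by decide +kernel, neg := by decide +kernel, comm := by decide +kernel, br := by decide +kernel }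

set_option maxRecDepth 100000 in
theorem isAn8 : IsAn chevE8 3 [[0, 130, 136], [109, 0, 135], [103, 104, 0]] [] :=
  { lt := by decide +kernel, neg := by decide +kernel, comm := by decide +kernel, br := by decide +kernel }

theorem tree6 : Tree chevE6 6 3 ![2, 3, 3, 3, 3, 4] 2 := by
  unfold Tree
  decide +kernel

theorem tree7 : Tree chevE7 7 3 ![2, 3, 3, 3, 3, 4, 5] 3 := by
  unfold Tree
  decide +kernel

theorem tree8 : Tree chevE8 8 3 ![2, 3, 3, 3, 3, 4, 5, 6] 4 := by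
  unfold Tree
  decide +kernel

/-- **START for `q = 2, 3`** : four conjugates reach the simple `A₁`s of two nodes -/
theorem start_small (hD : D ∈ [chevE6, chevE7, chevE8]) [Fintype K] (p : ℕ) [Fact p.Prime] [CharP K p]
    (hK : Fintype.card K = 2 ∨ Fintype.card K = 3) {a : MulAut ↥(D.group K)} {r : Fin l → ℤ}
    (hr : IsRoot cs hp.isCartan r) {c : K} (hc : c ≠ 0) (ha : ∀ t, a (xc hp (-r) t) = xc hp r (c * t)) :
    ∃ i j : Fin l, i ≠ j ∧ ∃ J, Reach a 4 J ∧ XX D l K (sr i) ≤ J ∧ XX D l K (-sr i) ≤ J ∧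
      XX D l K (sr j) ≤ J ∧ XX D l K (-sr j) ≤ J := by
  have hl := hp.rank_eq
  simp only [List.mem_cons, List.not_mem_nil, or_false] at hD
  rcases hD with rfl | rfl | rfl
  · obtain rfl : 6 = l := hl
    exact start_of hp cs p hK (i := 3) (j := 2) (by decide) isAn6 (by decide +kernel) (by decide +kernel) tree6 hr hc ha
  · obtain rfl : 7 = l := hl
    exact start_of hp cs p hK (i := 3) (j := 2) (by decide) isAn7 (by decide +kernel) (by decide +kernel) tree7 hr hc ha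
  · obtain rfl : 8 = l := hl
    exact start_of hp cs p hK (i := 3) (j := 2) (by decide) isAn8 (by decide +kernel) (by decide +kernel) tree8 hr hc ha

omit [Group W] in
/-- the same, in the form of `H441.GS.Small hp K` -/
theorem small (hD : D ∈ [chevE6, chevE7, chevE8]) [Fintype K] (hK : Fintype.card K = 2 ∨ Fintype.card K = 3) :
    ∀ (W : Type) [Group W] [Finite W] (cs : CoxeterSystem M W) (a : MulAut ↥(D.group K)) (r : Fin l → ℤ),
      IsRoot cs hp.isCartan r → ∀ c : K, c ≠ 0 → (∀ t, a (xc hp (-r) t) = xc hp r (c * t)) →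
      ∃ i j : Fin l, i ≠ j ∧ ∃ J, Reach a 4 J ∧ XX D l K (sr i) ≤ J ∧ XX D l K (-sr i) ≤ J ∧
        XX D l K (sr j) ≤ J ∧ XX D l K (-sr j) ≤ J := by
  intro W _ _ cs a r hr c hc ha
  obtain ⟨p, hpK⟩ := CharP.exists K
  have : Fact p.Prime := ⟨CharP.char_is_prime K p⟩
  exact start_small hp cs hD p hK hr hc ha

end

end Cfsg.Agent.H406.GS
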