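import Cfsg.Agent.H400.GsBase
import Cfsg.Agent.H441.GS.Chain
import Cfsg.Agent.Nodes.RGDTwActE6

/-!
# The final step of the chain for `²E₆(q)` (S4327), helper406

All long root groups are in `J`, `Reach a k J`, `a` maps `X (-r)` onto `X r`, `r` the highest root: `Reach a (k + 3) ⊤`.
-/

set_option autoImplicit false
set_option linter.unusedSectionVars false

namespace Cfsg.Agent.H406.GS

open CoxeterSystem Cfsg.Agent.ChevalleyStructure.CoxeterGeom Cfsg.Agent.Tits.Roots Cfsg.Agent.Tits.Core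
  Cfsg.Agent.Nodes.Reps Cfsg.Agent.Nodes.BNOf Cfsg.Agent.Nodes.RGDTwGen Cfsg.Agent.Nodes.RGDChev
  Cfsg.Agent.Nodes.RGDFold Cfsg.Agent.Nodes.RGDFoldSL Cfsg.Agent.Nodes.RGDTwE6 Cfsg.Agent.Nodes.RGDTwCoord
  Cfsg.Agent.Nodes.RGDTwCoordE6 Cfsg.Agent.Nodes.RGDTwComE6 Cfsg.Agent.Nodes.RGDTwActE6 Cfsg.Agent.Nodes.Coroot
  Cfsg.Agent.Nodes.Comb
open Cfsg.Lie Cfsg.Agent.ChevalleyStructure
open Cfsg.Agent.H915.Gs (Reach im)
open Cfsg.Agent.H400.Gs (OP)
open scoped commutatorElement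

universe u

section Roots

variable {W : Type*} [Group W] (cs : CoxeterSystem CoxeterMatrix.F₄ W)

/-- the reflection -/
def rf (i : Fin 4) (x : Fin 4 → ℤ) : Fin 4 → ℤ := x - pairing Nodes.RGDTwE6.A i x • sr i

theorem rep_word (L : List (Fin 4)) (x : Fin 4 → ℤ) :
    rep cs isCartan (cs.wordProd L) x = L.foldr rf x := by
  induction L with
  | nil => rw [wordProd_nil, map_one]; rfl
  | cons i L ih => rw [wordProd_cons, rep_mul_apply, ih, rep_simple_eq]; rfl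

variable {cs} in
theorem isRoot_word (L : List (Fin 4)) (i : Fin 4) {z : Fin 4 → ℤ} (h : L.foldr rf (sr i) = z) :
    IsRoot cs isCartan z := ⟨cs.wordProd L, i, by rw [rep_word, h]⟩

variable {cs} in
theorem not_root {z : Fin 4 → ℤ} (h1 : ¬ Lg z) (h2 : ¬ St z) : ¬ IsRoot cs isCartan z := fun h =>
  (long_or_short h).elim h1 h2

end Roots

section

variable {K : Type u} [Field K] [Fintype K] {q : ℕ} {φ : K →+* K} (hφ : ∀ x, φ x = x ^ q)
  (hqq : ∀ t : K, (t ^ q) ^ q = t)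
variable {W : Type*} [Group W] {cs : CoxeterSystem CoxeterMatrix.F₄ W}

include hφ hqq

theorem step {a : MulAut ↥(twistedE6 K q)} {f r : Fin 4 → ℤ} (hf : IsRoot cs isCartan f) (hr : IsRoot cs isCartan r)
    (hfr : IsRoot cs isCartan (-r + f)) (lr : Lg r) (lr' : Lg (-r)) (sf : St f) (hnr : ¬ IsRoot cs isCartan (f + r))
    (hne : r ≠ -f) (hN : N (-r) f = 1 ∨ N (-r) f = -1) {k : ℕ} {J : Subgroup ↥(twistedE6 K q)}
    (hO : OP a (X φ q r) (X φ q (-r))) (hJ : Reach a k J)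
    (hL : ∀ x, IsRoot cs isCartan x → Lg x → X φ q x ≤ J) (b : K) :
    ∃ J', Reach a (k + 1) J' ∧ J ≤ J' ∧ ∀ t, φ t = t → x φ q (-r + f) (t * b) ∈ J' := by
  obtain ⟨u, hu⟩ : ∃ u, u = x φ q f b := ⟨_, rfl⟩
  have hcen : (X φ q r).map (MulAut.conj u).toMonoidHom = X φ q r := by
    have h1 : ∀ v ∈ X φ q r, u * v = v * u := by
      intro v hv
      obtain ⟨c, -, rfl⟩ := (mem_X hφ hqq hr v).1 hv
      rw [hu]
      exact (comm_nil hφ hqq hf hr hnr hne b c).eq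
    ext w
    constructor
    · rintro ⟨v, hv, rfl⟩
      have h3 : (MulAut.conj u).toMonoidHom v = v := by
        change u * v * u⁻¹ = v
        rw [h1 v hv, mul_inv_cancel_right]
      rw [h3]; exact hv
    · intro hw
      refine ⟨w, hw, ?_⟩
      change u * w * u⁻¹ = w
      rw [h1 w hw, mul_inv_cancel_right]
  have h3 := hO.conj u
  rw [hcen] at h3
  refine ⟨_, h3.reach hJ (hL r hr lr), le_sup_left, fun t ht => ?_⟩
  obtain ⟨J', hJ'⟩ : ∃ J', J' = J ⊔ (X φ q (-r)).map (MulAut.conj u).toMonoidHom := ⟨_, rfl⟩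
  rw [← hJ']
  -- the parameter
  obtain ⟨e, he⟩ : ∃ e : K, e = ((N (-r) f : ℤ) : K) := ⟨_, rfl⟩
  have hee : e * e = 1 := by rcases hN with h | h <;> rw [he, h] <;> norm_num
  have hφe : φ e = e := by rw [he, map_intCast]
  have hφt : φ (e * t) = e * t := by rw [map_mul, hφe, ht]
  obtain ⟨-, hv, lv, h4⟩ := comm_quad hφ hqq hr.neg hf hfr lr' sf hφt b
  have h5 : x φ q (-r) (e * t) ∈ X φ q (-r) := (mem_X_long hφ hqq hr.neg lr' _).2 ⟨_, hφt, rfl⟩
  have h6 : ⁅x φ q (-r) (e * t), x φ q f b⁆ ∈ J' := by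
    rw [← hu, commutatorElement_def, mul_assoc, mul_assoc, ← mul_assoc u, hJ']
    refine mul_mem (Subgroup.mem_sup_left (hL _ hr.neg lr' h5)) (Subgroup.mem_sup_right ⟨(x φ q (-r) (e * t))⁻¹,
      inv_mem h5, rfl⟩)
  have h7 : x φ q (-r + (2 : ℤ) • f) (((N2 (-r) f : ℤ) : K) * (e * t * (b * φ b))) ∈ J' := by
    rw [hJ']
    refine Subgroup.mem_sup_left (hL _ hv lv ((mem_X_long hφ hqq hv lv _).2 ⟨_, ?_, rfl⟩))
    rw [map_mul, map_mul, hφt, map_mul φ b, map_intCast, phi_phi hφ hqq, mul_comm (φ b) b]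
  rw [h4] at h6
  have h8 : x φ q (-r + f) (((N (-r) f : ℤ) : K) * (e * t * b)) ∈ J' := (Subgroup.mul_mem_cancel_right _ h7).1 h6
  have h9 : ((N (-r) f : ℤ) : K) * (e * t * b) = t * b := by
    rw [← he]
    linear_combination (t * b) * hee
  rwa [h9] at h8

/-- two short roots with a short sum -/
theorem short_add {z w : Fin 4 → ℤ} (hz : IsRoot cs isCartan z) (hw : IsRoot cs isCartan w)
    (hzw : IsRoot cs isCartan (z + w)) (sz : St z) (sw : St w) (szw : St (z + w)) (hN : N z w = 1 ∨ N z w = -1)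
    {J : Subgroup ↥(twistedE6 K q)} {a : K} (ha : a ≠ 0) (h1 : x φ q z a ∈ J) (h2 : X φ q w ≤ J) :
    X φ q (z + w) ≤ J := by
  intro y hy
  obtain ⟨c, rfl⟩ := (mem_X_short hφ hqq hzw szw y).1 hy
  obtain ⟨e, he⟩ : ∃ e : K, e = ((N z w : ℤ) : K) := ⟨_, rfl⟩
  have hee : e * e = 1 := by rcases hN with h | h <;> rw [he, h] <;> norm_num
  have h3 := comm_short hφ hqq hz hw hzw sz sw szw a (a⁻¹ * φ (e * c))
  have h4 : ((N z w : ℤ) : K) * φ (a * (a⁻¹ * φ (e * c))) = c := by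
    rw [mul_inv_cancel_left₀ ha, phi_phi hφ hqq, ← he]
    linear_combination c * hee
  rw [h4] at h3
  rw [← h3, commutatorElement_def]
  have h5 : x φ q w (a⁻¹ * φ (e * c)) ∈ J := h2 ((mem_X_short hφ hqq hw sw _).2 ⟨_, rfl⟩)
  exact mul_mem (mul_mem (mul_mem h1 h5) (inv_mem h1)) (inv_mem h5)

/-- the reflection in a root whose root groups are in `J` -/
theorem refl_le [Finite W] (p : ℕ) [Fact p.Prime] [CharP K p] {J : Subgroup ↥(twistedE6 K q)} {z w : Fin 4 → ℤ}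
    (hz : IsRoot cs isCartan z) (h1 : X φ q z ≤ J) (h2 : X φ q (-z) ≤ J) (hw : IsRoot cs isCartan w)
    (h3 : X φ q w ≤ J) : X φ q (w - cpr cs isCartan w z • z) ≤ J := by
  have R := Nodes.RGDTwE6.rgd cs hφ hqq p
  obtain ⟨u, hu, hu1⟩ := H441.GS.exists_ne R hz
  obtain ⟨s, hs, c, hc, d, hd, m, hm, e⟩ := KFacts.RgdSL.exists_mu R hz hu hu1
  rw [← hs, ← R.conj_rp hm hw]
  intro y hy
  rw [mem_cj] at hy
  have hmJ : m ∈ J := by
    rw [e]
    exact mul_mem (mul_mem (h2 hc) (h1 hu)) (h2 hd)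
  have e : y = m * (m⁻¹ * y * m) * m⁻¹ := by group
  rw [e]
  exact mul_mem (mul_mem hmJ (h3 hy)) (inv_mem hmJ)

omit hφ hqq [Fintype K] in
theorem cpr_word [Finite W] (L : List (Fin 4)) (i : Fin 4) (x : Fin 4 → ℤ) :
    cpr cs isCartan x (L.foldr rf (sr i)) = pairing Nodes.RGDTwE6.A i (L.reverse.foldr rf x) := by
  rw [← rep_word cs, cpr_rep_sr, ← wordProd_reverse, rep_word]

theorem refl_word [Finite W] (p : ℕ) [Fact p.Prime] [CharP K p] {J : Subgroup ↥(twistedE6 K q)}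
    (hL : ∀ x, IsRoot cs isCartan x → Lg x → X φ q x ≤ J) (L : List (Fin 4)) (i : Fin 4) {z w w' : Fin 4 → ℤ}
    (hz : L.foldr rf (sr i) = z) (lz : Lg z) (lz' : Lg (-z)) (hw : IsRoot cs isCartan w) (h3 : X φ q w ≤ J)
    (hw' : w - pairing Nodes.RGDTwE6.A i (L.reverse.foldr rf w) • z = w') : X φ q w' ≤ J := by
  have h1 : IsRoot cs isCartan z := isRoot_word L i hz
  have h2 := refl_le hφ hqq p h1 (hL z h1 lz) (hL _ h1.neg lz') hw h3
  have h4 := cpr_word (cs := cs) L i w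
  rw [hz] at h4
  rwa [h4, hw'] at h2

/-- **The final step for `²E₆(q)`.** -/
theorem end_TwE [Finite W] (p : ℕ) [Fact p.Prime] [CharP K p] (hne : ∃ t : K, φ t ≠ t)
    {a : MulAut ↥(twistedE6 K q)} {r : Fin 4 → ℤ} (hr : r = ![2, 3, 4, 2])
    (ha : ∀ z, a z ∈ X φ q r ↔ z ∈ X φ q (-r)) {k : ℕ} {J : Subgroup ↥(twistedE6 K q)} (hJ : Reach a k J)
    (hL : ∀ x, IsRoot cs isCartan x → Lg x → X φ q x ≤ J) : Reach a (k + 3) ⊤ := by
  subst hr
  have R := Nodes.RGDTwE6.rgd cs hφ hqq p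
  have hr0 : IsRoot cs isCartan ![2, 3, 4, 2] := isRoot_word [0, 1, 2, 3, 1, 2, 1] 0 (by decide +kernel)
  -- the pairs
  have hO0 : OP a (X φ q (-![2, 3, 4, 2])) (X φ q (- -![2, 3, 4, 2])) := by
    refine OP.of_im ?_
    rw [neg_neg]
    ext z
    rw [im, Subgroup.mem_map]
    constructor
    · rintro ⟨y, hy, rfl⟩
      exact (ha y).2 hy
    · intro hz
      exact ⟨a⁻¹ z, (ha _).1 (by rwa [MulAut.apply_inv_self]), MulAut.apply_inv_self _ a z⟩
  have hO : ∀ (L : List (Fin 4)) {z : Fin 4 → ℤ}, L.foldr rf (-![2, 3, 4, 2]) = z →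
      OP a (X φ q z) (X φ q (-z)) := by
    intro L z hz
    have := hO0.root R hr0.neg (cs.wordProd L)
    rwa [rep_word, hz] at this
  obtain ⟨θ, hθ⟩ := hne
  -- the roots
  have q1 : IsRoot cs isCartan ![0, 1, 0, 0] := isRoot_word [] 1 (by decide +kernel)
  have q2 : IsRoot cs isCartan ![0, 0, 1, 0] := isRoot_word [] 2 (by decide +kernel)
  have q3 : IsRoot cs isCartan ![0, 0, 0, 1] := isRoot_word [] 3 (by decide +kernel)
  have q12 : IsRoot cs isCartan ![0, 1, 1, 0] := isRoot_word [1] 2 (by decide +kernel)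
  have q122 : IsRoot cs isCartan ![0, 1, 2, 0] := isRoot_word [2] 1 (by decide +kernel)
  have q23 : IsRoot cs isCartan ![0, 0, 1, 1] := isRoot_word [2] 3 (by decide +kernel)
  have q1223 : IsRoot cs isCartan ![0, 1, 2, 1] := isRoot_word [2, 1, 2] 3 (by decide +kernel)
  -- `X_{α₂}` by two conjugates
  have e1 : -![0, 1, 0, 0] + ![0, 1, 1, 0] = (![0, 0, 1, 0] : Fin 4 → ℤ) := by decide +kernel
  obtain ⟨J₁, hJ₁, l₁, h₁⟩ := step hφ hqq q12 q1 (by rw [e1]; exact q2) (by decide +kernel) (by decide +kernel)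
    (by decide +kernel) (not_root (by decide +kernel) (by decide +kernel)) (by decide +kernel) (by decide +kernel)
    (hO [1, 2, 3, 0, 1, 2, 1, 0] (by decide +kernel)) hJ hL 1
  obtain ⟨J₂, hJ₂, l₂, h₂⟩ := step hφ hqq q12 q1 (by rw [e1]; exact q2) (by decide +kernel) (by decide +kernel)
    (by decide +kernel) (not_root (by decide +kernel) (by decide +kernel)) (by decide +kernel) (by decide +kernel)
    (hO [1, 2, 3, 0, 1, 2, 1, 0] (by decide +kernel)) hJ₁ (fun x hx lx => (hL x hx lx).trans l₁) θ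
  rw [e1] at h₁ h₂
  have s2 : St ![0, 0, 1, 0] := by decide +kernel
  have s3 : St ![0, 0, 0, 1] := by decide +kernel
  have s23 : St ![0, 0, 1, 1] := by decide +kernel
  have g2 : X φ q ![0, 0, 1, 0] ≤ J₂ := by
    intro y hy
    obtain ⟨c, rfl⟩ := (mem_X_short hφ hqq q2 s2 y).1 hy
    have hd : θ - φ θ ≠ 0 := fun h => hθ (sub_eq_zero.1 h).symm
    obtain ⟨t', ht'⟩ : ∃ t', t' = (c - φ c) / (θ - φ θ) := ⟨_, rfl⟩
    have k1 : φ t' = t' := by
      rw [ht', map_div₀, map_sub, map_sub, phi_phi hφ hqq, phi_phi hφ hqq, ← neg_sub c, ← neg_sub θ, neg_div_neg_eq]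
    have k2 : t' * (θ - φ θ) = c - φ c := by rw [ht', div_mul_cancel₀ _ hd]
    have k3 : φ (c - t' * θ) = c - t' * θ := by
      rw [map_sub, map_mul, k1]
      linear_combination k2
    have k4 : x φ q ![0, 0, 1, 0] c = x φ q ![0, 0, 1, 0] ((c - t' * θ) * 1) * x φ q ![0, 0, 1, 0] (t' * θ) := by
      rw [← x_add hφ hqq q2 (ok_short hφ hqq q2 s2 _) (ok_short hφ hqq q2 s2 _), mul_one, sub_add_cancel]
    rw [k4]
    exact mul_mem (l₂ (h₁ _ k3)) (h₂ _ k1)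
  -- `x_{α₃}(1)` by one conjugate
  have e2 : -![0, 1, 2, 0] + ![0, 1, 2, 1] = (![0, 0, 0, 1] : Fin 4 → ℤ) := by decide +kernel
  have hL₂ : ∀ x, IsRoot cs isCartan x → Lg x → X φ q x ≤ J₂ := fun x hx lx => ((hL x hx lx).trans l₁).trans l₂
  obtain ⟨J₃, hJ₃, l₃, h₃⟩ := step hφ hqq q1223 q122 (by rw [e2]; exact q3) (by decide +kernel) (by decide +kernel)
    (by decide +kernel) (not_root (by decide +kernel) (by decide +kernel)) (by decide +kernel) (by decide +kernel)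
    (hO [2, 1, 2, 3, 0, 1, 2, 1, 0] (by decide +kernel)) hJ₂ hL₂ 1
  rw [e2] at h₃
  have h₃' : x φ q ![0, 0, 0, 1] 1 ∈ J₃ := by
    have := h₃ 1 (map_one φ)
    rwa [mul_one] at this
  have hL₃ : ∀ x, IsRoot cs isCartan x → Lg x → X φ q x ≤ J₃ := fun x hx lx => (hL₂ x hx lx).trans l₃
  have g2' : X φ q ![0, 0, 1, 0] ≤ J₃ := g2.trans l₃
  -- `X_{-α₂}`
  have g12 : X φ q ![0, 1, 1, 0] ≤ J₃ := refl_word hφ hqq p hL₃ [] 1 rfl (by decide +kernel) (by decide +kernel) q2 g2'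
    (by decide +kernel)
  have e3 : ![0, 0, -1, 0] = -(![0, 0, 1, 0] : Fin 4 → ℤ) := by decide +kernel
  have g2n : X φ q ![0, 0, -1, 0] ≤ J₃ := refl_word hφ hqq p hL₃ [2] 1 rfl (by decide +kernel) (by decide +kernel) q12
    g12 (by decide +kernel)
  have q2n : IsRoot cs isCartan ![0, 0, -1, 0] := e3 ▸ q2.neg
  -- `X_{α₂ + α₃}`, `X_{α₃}`
  have e4 : ![0, 0, 0, 1] + ![0, 0, 1, 0] = (![0, 0, 1, 1] : Fin 4 → ℤ) := by decide +kernel
  have g23 : X φ q ![0, 0, 1, 1] ≤ J₃ := by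
    have := short_add hφ hqq q3 q2 (by rw [e4]; exact q23) s3 s2 (by rw [e4]; exact s23) (by decide +kernel)
      one_ne_zero h₃' g2'
    rwa [e4] at this
  have e5 : ![0, 0, 1, 1] + ![0, 0, -1, 0] = (![0, 0, 0, 1] : Fin 4 → ℤ) := by decide +kernel
  have g3 : X φ q ![0, 0, 0, 1] ≤ J₃ := by
    have := short_add hφ hqq q23 q2n (by rw [e5]; exact q3) s23 (by decide +kernel) (by rw [e5]; exact s3)
      (by decide +kernel) one_ne_zero (g23 ((mem_X_short hφ hqq q23 s23 _).2 ⟨1, rfl⟩)) g2n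
    rwa [e5] at this
  -- `X_{-α₃}`
  have g3a : X φ q ![0, -1, -2, -1] ≤ J₃ := refl_word hφ hqq p hL₃ [3, 2] 1 rfl (by decide +kernel) (by decide +kernel)
    q3 g3 (by decide +kernel)
  have e6 : ![0, -1, -2, -1] = -(![0, 1, 2, 1] : Fin 4 → ℤ) := by decide +kernel
  have e7 : ![0, 0, 0, -1] = -(![0, 0, 0, 1] : Fin 4 → ℤ) := by decide +kernel
  have g3n : X φ q ![0, 0, 0, -1] ≤ J₃ := refl_word hφ hqq p hL₃ [2] 1 rfl (by decide +kernel) (by decide +kernel)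
    (by rw [e6]; exact q1223.neg) g3a (by decide +kernel)
  have hJ₃' : J₃ = ⊤ := by
    rw [← top_le_iff, ← G1_eq_top (cs := cs) hφ hqq]
    refine RGD.Sup_le fun x hx u hu => H441.GS.X_le_of_simple R (fun i => ?_) hx hu
    fin_cases i
    · exact ⟨hL₃ _ (isRoot_sr cs isCartan 0) (by decide +kernel), hL₃ _ (isRoot_sr cs isCartan 0).neg (by decide +kernel)⟩
    · exact ⟨hL₃ _ (isRoot_sr cs isCartan 1) (by decide +kernel), hL₃ _ (isRoot_sr cs isCartan 1).neg (by decide +kernel)⟩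
    · have f1 : sr 2 = (![0, 0, 1, 0] : Fin 4 → ℤ) := by decide +kernel
      change X φ q (sr 2) ≤ J₃ ∧ X φ q (-sr 2) ≤ J₃
      rw [f1, ← e3]
      exact ⟨g2', g2n⟩
    · have f1 : sr 3 = (![0, 0, 0, 1] : Fin 4 → ℤ) := by decide +kernel
      change X φ q (sr 3) ≤ J₃ ∧ X φ q (-sr 3) ≤ J₃
      rw [f1, ← e7]
      exact ⟨g3, g3n⟩
  rw [hJ₃'] at hJ₃
  exact hJ₃

end

end Cfsg.Agent.H406.GS
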